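import Mathlib
import Groth.Prelude.Def_EtBase
import Groth.Agent.HenselLib.StrictSections
import Groth.Agent.H8Lim.SpreadOut

/-!
# Local sections of étale morphisms at points with strictly henselian local ring
-/

set_option autoImplicit false
set_option linter.all false
set_option backward.isDefEq.respectTransparency.types false
set_option backward.isDefEq.respectTransparency false
set_option synthInstance.maxHeartbeats 400000
set_option maxHeartbeats 1000000

universe u

open CategoryTheory Limits AlgebraicGeometry IsLocalRing TensorProduct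

namespace Groth.Agent.EtZarCmp

variable {X Y : Scheme.{u}} (f : X ⟶ Y)

/-- An étale morphism has a section on local rings over a strictly henselian local ring. -/
theorem exists_stalk_section [Etale f] (x : X)
    (h : EtCoh.IsStrictlyHenselianLocalRing (Y.presheaf.stalk (f x))) :
    ∃ φ : X.presheaf.stalk x ⟶ Y.presheaf.stalk (f x), f.stalkMap x ≫ φ = 𝟙 _ := by
  obtain ⟨_, _⟩ := h
  obtain ⟨U, hU, hxU, -⟩ := exists_isAffineOpen_mem_and_subset (X := Y) (x := f x) (U := ⊤) trivial
  obtain ⟨V, hV, hxV, hle⟩ := exists_isAffineOpen_mem_and_subset (X := X) (x := x) (U := f ⁻¹ᵁ U) hxU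
  replace hle : V ≤ f ⁻¹ᵁ U := hle
  have hV' := HasRingHomProperty.appLE @Etale f inferInstance ⟨U, hU⟩ ⟨V, hV⟩ hle
  algebraize [(f.appLE U V hle).hom]
  have : Algebra.Etale Γ(Y, U) Γ(X, V) := hV'
  letI : Algebra Γ(Y, U) (Y.presheaf.stalk (f x)) := (Y.presheaf.germ U (f x) hxU).hom.toAlgebra
  letI : Algebra Γ(X, V) (X.presheaf.stalk x) := (X.presheaf.germ V x hxV).hom.toAlgebra
  have : IsLocalization.AtPrime (X.presheaf.stalk x) (hV.primeIdealOf ⟨x, hxV⟩).asIdeal :=
    hV.isLocalization_stalk ⟨x, hxV⟩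
  have : IsLocalization.AtPrime (Y.presheaf.stalk (f x)) (hU.primeIdealOf ⟨f x, hxU⟩).asIdeal :=
    hU.isLocalization_stalk ⟨f x, hxU⟩
  let A := Y.presheaf.stalk (f x)
  let B := A ⊗[Γ(Y, U)] Γ(X, V)
  letI : Algebra A (X.presheaf.stalk x) := (f.stalkMap x).hom.toAlgebra
  letI : Algebra Γ(Y, U) (X.presheaf.stalk x) :=
    ((X.presheaf.germ V x hxV).hom.comp (f.appLE U V hle).hom).toAlgebra
  have : IsScalarTower Γ(Y, U) Γ(X, V) (X.presheaf.stalk x) := IsScalarTower.of_algebraMap_eq fun _ => rfl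
  have hgerm : ∀ r, X.presheaf.germ V x hxV (f.appLE U V hle r) = f.stalkMap x (Y.presheaf.germ U (f x) hxU r) := by
    intro r
    change X.presheaf.germ V x hxV (f.appLE U V hle r) = (Y.presheaf.germ U (f x) hxU ≫ f.stalkMap x) r
    rw [Scheme.Hom.germ_stalkMap, Scheme.Hom.appLE, CommRingCat.comp_apply, TopCat.Presheaf.germ_res_apply]
    rfl
  have : IsScalarTower Γ(Y, U) A (X.presheaf.stalk x) := IsScalarTower.of_algebraMap_eq fun r => hgerm r
  let μ : B →ₐ[A] X.presheaf.stalk x :=
    Algebra.TensorProduct.lift (Algebra.ofId A _) (IsScalarTower.toAlgHom Γ(Y, U) Γ(X, V) _)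
      fun a b => Commute.all _ _
  let i : Γ(X, V) →+* B := Algebra.TensorProduct.includeRight.toRingHom
  have hi : ∀ b, μ (i b) = algebraMap Γ(X, V) (X.presheaf.stalk x) b := fun b => by
    change μ (1 ⊗ₜ[Γ(Y, U)] b) = _
    exact (Algebra.TensorProduct.lift_tmul _ _ _ (1 : A) b).trans (by rw [map_one, one_mul]; rfl)
  let q : Ideal B := (maximalIdeal (X.presheaf.stalk x)).comap μ.toRingHom
  have hq : q.comap (algebraMap A B) = maximalIdeal A := by
    ext a
    show μ (algebraMap A B a) ∈ maximalIdeal _ ↔ a ∈ maximalIdeal A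
    rw [AlgHom.commutes]
    show f.stalkMap x a ∈ maximalIdeal _ ↔ _
    rw [mem_maximalIdeal, mem_maximalIdeal, mem_nonunits_iff, mem_nonunits_iff, isUnit_map_iff]
  obtain ⟨τ, hτ⟩ := HenselLib.StrictSections.exists_algHom_of_prime A B q hq
  let φ : X.presheaf.stalk x →+* A :=
    IsLocalization.lift (M := (hV.primeIdealOf ⟨x, hxV⟩).asIdeal.primeCompl)
      (g := τ.toRingHom.comp i) fun b => by
        by_contra hb
        have h1 : i b.1 ∈ q := by
          rw [← hτ]
          exact (mem_maximalIdeal _).mpr hb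
        have h2 : μ (i b.1) ∈ maximalIdeal (X.presheaf.stalk x) := h1
        rw [hi] at h2
        exact (mem_maximalIdeal _).mp h2 (IsLocalization.map_units _ b)
  refine ⟨CommRingCat.ofHom φ, CommRingCat.hom_ext (IsLocalization.ringHom_ext
    (hU.primeIdealOf ⟨f x, hxU⟩).asIdeal.primeCompl (RingHom.ext fun r => ?_))⟩
  show φ (f.stalkMap x (Y.presheaf.germ U (f x) hxU r)) = Y.presheaf.germ U (f x) hxU r
  rw [← hgerm]
  refine (IsLocalization.lift_eq _ _).trans ?_
  show τ (i (algebraMap Γ(Y, U) Γ(X, V) r)) = _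
  have h3 : algebraMap A B (algebraMap Γ(Y, U) A r) = i (algebraMap Γ(Y, U) Γ(X, V) r) := by
    rw [← IsScalarTower.algebraMap_apply]
    exact ((Algebra.TensorProduct.includeRight : Γ(X, V) →ₐ[Γ(Y, U)] B).commutes r).symm
  rw [← h3, AlgHom.commutes]
  rfl

/-- Étale morphisms have sections near such points. -/
theorem exists_open_section [Etale f] (x : X)
    (h : EtCoh.IsStrictlyHenselianLocalRing (Y.presheaf.stalk (f x))) :
    ∃ (W : Y.Opens) (_ : f x ∈ W) (σ : W.toScheme ⟶ X), σ ≫ f = W.ι := by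
  obtain ⟨φ, hφ⟩ := exists_stalk_section f x h
  obtain ⟨W, hW, σ, -, hσ⟩ := H8Lim.spread_out (𝟙 Y) f (x := f x) (y := x) rfl φ (by
    rw [hφ]
    simp)
  exact ⟨W, hW, σ, by rw [hσ, Category.comp_id]⟩

end Groth.Agent.EtZarCmp
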