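import Groth.Prelude.Def_EtZar
import Groth.Agent.EtZarCmp.Section
import Groth.Agent.EtCmp.AdjExt
import Groth.Agent.EtCechLib.Etale
import Mathlib.Algebra.Category.Grp.AB
import Mathlib.CategoryTheory.Sites.Pullback

/-!
# Étale and Zariski cohomology of schemes with strictly henselian local rings
-/

set_option autoImplicit false
set_option linter.all false
set_option backward.isDefEq.respectTransparency.types false
set_option backward.isDefEq.respectTransparency false
set_option backward.defeqAttrib.useBackward true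
set_option synthInstance.maxHeartbeats 400000
set_option maxHeartbeats 1000000

universe v₁ v₂ u₁ u₂ v w u

open CategoryTheory Limits CategoryTheory.Abelian AlgebraicGeometry Opposite TopologicalSpace

namespace Groth.Agent.EtZarCmp

theorem lan_preservesFiniteLimits {C : Type u₁} [Category.{v₁} C] {D : Type u₂} [Category.{v₂} D]
    (E : Type w) [Category.{v} E] [HasFiniteLimits E] [HasColimitsOfSize.{v₁, max u₁ v₂} E] [AB5OfSize.{v₁, max u₁ v₂} E]
    (F : C ⥤ D) [RepresentablyFlat F] [∀ (G : Cᵒᵖ ⥤ E), F.op.HasPointwiseLeftKanExtension G] :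
    PreservesFiniteLimits (F.op.lan : (Cᵒᵖ ⥤ E) ⥤ Dᵒᵖ ⥤ E) := by
  refine ⟨fun J _ _ => preservesLimitsOfShape_of_evaluation _ J fun K => ?_⟩
  have : IsFiltered (CostructuredArrow F.op K) :=
    IsFiltered.of_equivalence (structuredArrowOpEquivalence F (unop K))
  have : HasColimitsOfShape (CostructuredArrow F.op K) E := HasColimitsOfSize.has_colimits_of_shape _
  let iso : F.op.lan ⋙ (evaluation Dᵒᵖ E).obj K ≅
      (Functor.whiskeringLeft _ _ E).obj (CostructuredArrow.proj F.op K) ⋙ colim :=
    NatIso.ofComponents (fun G => IsColimit.coconePointUniqueUpToIso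
      (Functor.isPointwiseLeftKanExtensionLeftKanExtensionUnit F.op G K) (colimit.isColimit _)) (fun {G₁ G₂} φ => by
      apply (Functor.isPointwiseLeftKanExtensionLeftKanExtensionUnit F.op G₁ K).hom_ext
      intro T
      have h₁ := fun (G : Cᵒᵖ ⥤ E) => IsColimit.comp_coconePointUniqueUpToIso_hom
        (Functor.isPointwiseLeftKanExtensionLeftKanExtensionUnit F.op G K) (colimit.isColimit _) T
      have h₂ := congr_app (F.op.lanUnit.naturality φ) T.left
      dsimp at h₁ h₂ ⊢
      simp only [Category.assoc] at h₁ ⊢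
      simp only [Functor.lan, Functor.lanUnit] at h₂ ⊢
      rw [reassoc_of% h₁, NatTrans.naturality_assoc, ← reassoc_of% h₂, h₁, ι_colimMap, Functor.whiskerLeft_app]
      rfl)
  exact preservesLimitsOfShape_of_natIso iso.symm

variable (S : Scheme.{u})

/-- The image of `W` is contained in `U`. -/
theorem range_subset_of_hom {W : S.Etale} {U : S.Opens} (f : W ⟶ (EtZar.zarToEt S).obj U) :
    Set.range W.hom ⊆ Set.range U.ι := by
  have e : f.left ≫ U.ι = W.hom := CategoryTheory.Over.w f.hom
  rintro _ ⟨x, rfl⟩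
  exact ⟨f.left x, congrArg (fun m => m x) e⟩

/-- A map into an open subscheme. -/
noncomputable def homTo {W : S.Etale} (U : S.Opens) (h : Set.range W.hom ⊆ Set.range U.ι) :
    W ⟶ (EtZar.zarToEt S).obj U :=
  MorphismProperty.Over.homMk (IsOpenImmersion.lift U.ι W.hom h) (IsOpenImmersion.lift_fac _ _ h) trivial

theorem hom_zar_ext {W : S.Etale} {U : S.Opens} (f g : W ⟶ (EtZar.zarToEt S).obj U) : f = g := by
  refine (Scheme.Etale.forget S ⋙ CategoryTheory.Over.forget S).map_injective ((cancel_mono U.ι).1 ?_)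
  exact (CategoryTheory.Over.w f.hom).trans (CategoryTheory.Over.w g.hom).symm

instance representablyFlat_zarToEt : RepresentablyFlat (EtZar.zarToEt S) := by
  refine ⟨fun W => ?_⟩
  haveI : Nonempty (StructuredArrow W (EtZar.zarToEt S)) :=
    ⟨StructuredArrow.mk (homTo S ⊤ (by simp))⟩
  haveI : IsCofilteredOrEmpty (StructuredArrow W (EtZar.zarToEt S)) :=
    { cone_objs := fun a b => by
        have h : Set.range W.hom ⊆ Set.range (a.right ⊓ b.right : S.Opens).ι := by
          have ha := range_subset_of_hom S a.hom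
          have hb := range_subset_of_hom S b.hom
          rw [Scheme.Opens.range_ι] at ha hb ⊢
          exact fun x hx => ⟨ha hx, hb hx⟩
        exact ⟨StructuredArrow.mk (homTo S _ h),
          StructuredArrow.homMk (homOfLE inf_le_left) (hom_zar_ext S _ _),
          StructuredArrow.homMk (homOfLE inf_le_right) (hom_zar_ext S _ _), trivial⟩
      cone_maps := fun a b f g => ⟨a, 𝟙 _, by
        congr 1
        exact StructuredArrow.ext _ _ (Subsingleton.elim _ _)⟩ }
  exact { }

/-- The whole space is final. -/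
noncomputable def isTerminalTop : IsTerminal ((EtZar.zarToEt S).obj ⊤) :=
  IsTerminal.ofUniqueHom (fun W => homTo S ⊤ (by simp)) (fun W m => hom_zar_ext S _ _)

variable [EtZar.ZarCont S]

/-- The pullback from the Zariski site. -/
noncomputable abbrev zarPull : EtZar.Ab S ⥤ EtCoh.Ab S :=
  (EtZar.zarToEt S).sheafPullback AddCommGrpCat.{u + 1} (Opens.grothendieckTopology S) S.smallEtaleTopology

noncomputable abbrev zarAdj : zarPull S ⊣ EtZar.resZar S :=
  (EtZar.zarToEt S).sheafAdjunctionContinuous AddCommGrpCat.{u + 1} (Opens.grothendieckTopology S)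
    S.smallEtaleTopology

instance preservesFiniteLimits_zarPull : PreservesFiniteLimits (zarPull S) := by
  haveI : AB5OfSize.{u, u} AddCommGrpCat.{u + 1} := AB5OfSize_of_univLE AddCommGrpCat.{u + 1}
  haveI := lan_preservesFiniteLimits AddCommGrpCat.{u + 1} (EtZar.zarToEt S)
  exact Functor.sheafPullbackConstruction.preservesFiniteLimits (EtZar.zarToEt S) AddCommGrpCat.{u + 1}
    (Opens.grothendieckTopology S) S.smallEtaleTopology

instance preservesFiniteColimits_zarPull : PreservesFiniteColimits (zarPull S) := by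
  haveI := (zarAdj S).leftAdjoint_preservesColimits
  infer_instance

instance additive_zarPull : (zarPull S).Additive := by
  haveI : PreservesBinaryBiproducts (zarPull S) :=
    preservesBinaryBiproducts_of_preservesBinaryCoproducts _
  exact Functor.additive_of_preservesBinaryBiproducts _

instance preservesFiniteLimits_resZar : PreservesFiniteLimits (EtZar.resZar S) := by
  haveI : PreservesLimitsOfSize.{0, 0} (EtZar.resZar S) := (zarAdj S).rightAdjoint_preservesLimits
  exact PreservesLimitsOfSize.preservesFiniteLimits (EtZar.resZar S)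

instance additive_resZar : (EtZar.resZar S).Additive := (zarAdj S).right_adjoint_additive

variable {S} (hS : ∀ s : S, EtCoh.IsStrictlyHenselianLocalRing (S.presheaf.stalk s))

include hS in
theorem epi_resZar {F G : EtCoh.Ab S} (g : F ⟶ G) [Epi g] : Epi ((EtZar.resZar S).map g) := by
  haveI : Sheaf.IsLocallySurjective g :=
    (Sheaf.isLocallySurjective_iff_epi' (A := AddCommGrpCat.{u + 1}) g).2 inferInstance
  haveI : Sheaf.IsLocallySurjective ((EtZar.resZar S).map g) := by
    refine ⟨fun {U} x s hs => ?_⟩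
    obtain ⟨Z, k, ⟨y, hy⟩, z, hz⟩ := EtCechLib.exists_mem_of_mem
      (Presheaf.imageSieve_mem S.smallEtaleTopology g.hom x) (⟨s, hs⟩ : (U : S.Opens))
    haveI : Etale Z.hom := Z.prop
    have hk : k.left ≫ Scheme.Opens.ι U = Z.hom := CategoryTheory.Over.w k.hom
    have hzs : Z.hom z = s := by
      rw [← hk]
      exact congrArg Subtype.val hz
    obtain ⟨W, hW, σ, hσ⟩ := exists_open_section Z.hom z (hS _)
    have hWU : W ≤ U := fun w hw => by
      have e : (σ ≫ k.left) ≫ Scheme.Opens.ι U = W.ι := by rw [Category.assoc, hk, hσ]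
      have h1 : Scheme.Opens.ι U ((σ ≫ k.left) ⟨w, hw⟩) = w := congrArg (fun m => m ⟨w, hw⟩) e
      rw [← h1]
      exact ((σ ≫ k.left) ⟨w, hw⟩).2
    let σ' : (EtZar.zarToEt S).obj W ⟶ Z := MorphismProperty.Over.homMk σ hσ trivial
    refine ⟨W, homOfLE hWU, ⟨F.obj.map σ'.op y, ?_⟩, hzs ▸ hW⟩
    show g.hom.app (op ((EtZar.zarToEt S).obj W)) (F.obj.map σ'.op y) =
      G.obj.map ((EtZar.zarToEt S).map (homOfLE hWU)).op x
    rw [hom_zar_ext S ((EtZar.zarToEt S).map (homOfLE hWU)) (σ' ≫ k), op_comp, Functor.map_comp_apply,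
      NatTrans.naturality_apply]
    exact congrArg (G.obj.map σ'.op) hy
  exact Sheaf.epi_of_isLocallySurjective _

include hS in
theorem isZero_rightDerived_resZar (F : EtCoh.Ab S) (q : ℕ) :
    IsZero (((EtZar.resZar S).rightDerived (q + 1)).obj F) := by
  refine EtCmp.isZero_rightDerived_of_class (EtZar.resZar S) (fun _ => True) (fun A _ => ?_) q F trivial
  haveI : Injective (SiteCoh.injEmbed A).X₂ := inferInstanceAs (Injective (Injective.under A))
  haveI := (SiteCoh.injEmbed_shortExact A).epi_g
  refine ⟨SiteCoh.injEmbed A, SiteCoh.injEmbed_shortExact A, ⟨Iso.refl _⟩, fun n hn => ?_,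
    epi_resZar hS _, trivial⟩
  obtain ⟨k, rfl⟩ : ∃ k, n = k + 1 := ⟨n - 1, by omega⟩
  exact Functor.isZero_rightDerived_obj_injective_succ _ k _

/-- Precomposition with an isomorphism. -/
noncomputable def extIsoLeft {A : Type (u + 2)} [Category.{u + 1} A] [Abelian A] [HasExt.{u + 1} A]
    {Y Y' K : A} (e : Y ≅ Y') (n : ℕ) : Ext.{u + 1} Y K n ≃+ Ext.{u + 1} Y' K n where
  toFun x := (Ext.mk₀ e.inv).comp x (zero_add n)
  invFun x := (Ext.mk₀ e.hom).comp x (zero_add n)
  left_inv x := by
    dsimp only
    rw [Ext.mk₀_comp_mk₀_assoc, Iso.hom_inv_id, Ext.mk₀_id_comp]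
  right_inv x := by
    dsimp only
    rw [Ext.mk₀_comp_mk₀_assoc, Iso.inv_hom_id, Ext.mk₀_id_comp]
  map_add' x y := Ext.comp_add _ _ _ _

variable (S) in
/-- The Zariski constant sheaf pulls back to the étale one. -/
noncomputable def pullConstIso (M : AddCommGrpCat.{u + 1}) :
    (zarPull S).obj ((constantSheaf (Opens.grothendieckTopology S) AddCommGrpCat.{u + 1}).obj M) ≅
      (constantSheaf S.smallEtaleTopology AddCommGrpCat.{u + 1}).obj M :=
  ((((constantSheafAdj (Opens.grothendieckTopology S) AddCommGrpCat.{u + 1}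
        (IsTerminal.ofUniqueHom (Y := (⊤ : S.Opens)) (fun U => homOfLE le_top) (fun _ _ => Subsingleton.elim _ _))).comp (zarAdj S)).ofNatIsoRight
      (show EtZar.resZar S ⋙ (sheafSections (Opens.grothendieckTopology S) AddCommGrpCat.{u + 1}).obj (op (⊤ : S.Opens)) ≅
          (sheafSections S.smallEtaleTopology AddCommGrpCat.{u + 1}).obj (op ((EtZar.zarToEt S).obj ⊤)) from
        NatIso.ofComponents (fun K => Iso.refl _) (fun f => by
          dsimp
          simp only [Category.comp_id, Category.id_comp]))).leftAdjointUniq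
    (constantSheafAdj S.smallEtaleTopology AddCommGrpCat.{u + 1} (isTerminalTop S))).app M

include hS in
/-- Étale cohomology is Zariski cohomology. -/
theorem nonempty_H_iso (F : EtCoh.Ab S) (i : ℕ) :
    Nonempty (EtCoh.H S F i ≃+ EtZar.H ((EtZar.resZar S).obj F) i) := by
  let c := (constantSheaf (Opens.grothendieckTopology S) AddCommGrpCat.{u + 1}).obj
    (AddCommGrpCat.of (ULift.{u + 1} ℤ))
  have h := EtCmp.bijective_adjExtHom (zarAdj S) c i F (fun q hq => by
    obtain ⟨k, rfl⟩ : ∃ k, q = k + 1 := ⟨q - 1, by omega⟩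
    exact isZero_rightDerived_resZar hS F k)
  exact ⟨((AddEquiv.ofBijective _ h).trans (extIsoLeft (pullConstIso S _) i)).symm⟩

end Groth.Agent.EtZarCmp
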